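/-
Fusion modulo a strongly closed subgroup; strongly closed subgroups of rank one.
-/
import Cfsg.Agent.SC2.E
import Cfsg.Agent.Transfer.Ctrl
import Cfsg.Agent.Invol.Wreath2
import Cfsg.Agent.Solv.CyclicMax
set_option autoImplicit false
set_option linter.unusedSectionVars false

namespace CF.SC2
open Subgroup Cfsg CF.BG CF.Sig CF.GW CF.Ab2
open scoped commutatorElement

universe u
section
variable {G : Type u} [Group G] [Finite G]
variable {A B C D E H K L M N P Q S T U V W X Y Z : Subgroup G} {a b d g s t u v w x y z : G}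

/-- Alperin's theorem modulo a strongly closed subgroup -/
theorem alp {R : Subgroup G → G → Prop} (hT : Syl 2 T X) (l : S ≤ T)
    (sc : ∀ x ∈ S, ∀ g ∈ X, g * x * g⁻¹ ∈ T → g * x * g⁻¹ ∈ S) (hR : Transfer.FusRel T R)
    (h1 : ∀ U ≤ T, ∀ g ∈ X ⊓ 𝐍 S, g ∈ 𝐍 U → R U g)
    (h2 : ∀ U ≤ T, Syl 2 (T ⊓ 𝐍 U) (X ⊓ 𝐍 U) → ∀ d ∈ X ⊓ 𝐍 U ⊓ centMod U (U ⊓ S), R U d) :
    Transfer.CtrlIn R T X := by
  haveI : Fact (Nat.Prime 2) := ⟨p2⟩
  refine hR.alperin (hT.isSylowIn p2) fun U hU ih => ?_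
  have n : X ⊓ 𝐍 U ≤ 𝐍 (U ⊓ S) := le_norm_iff.2 fun g hg x hx =>
    ⟨conj_mem_of_norm hg.2 hx.1, sc x hx.2 g hg.1 (hU.1 (conj_mem_of_norm hg.2 hx.1))⟩
  by_cases e : S ≤ U
  · exact fun g hg => h1 U hU.1 g ⟨hg.1, inf_eq_right.2 e ▸ n hg⟩ hg.2
  have nS : T ≤ 𝐍 S := le_norm_iff.2 fun g hg x hx => sc x hx g (hT.le hg) (conj_mem_of_norm (le_norm_self T hg) (l hx))
  refine hR.step_of_normal hU inf_le_left (norm_inf (le_norm_self _) (norm_centMod inf_le_right n))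
    (h2 U hU.1 (syl_mk p2 hU.2.le (hT.pi.le inf_le_left) hU.2.not_dvd)) (fun k => e
      (Transfer.le_of_inf_normalizer_le hT.pi.isPGroup hU.1 l (hU.1.trans nS) (le_trans ?_ k))) ih
  have m : S ⊓ 𝐍 U ≤ X ⊓ 𝐍 U := inf_le_inf_right _ (l.trans hT.le)
  exact le_inf (inf_le_left.trans l) (le_inf m (le_centMod.2 ⟨m.trans n, le_inf (comm_le_right inf_le_right)
    ((commutator_mono inf_le_left le_rfl).trans (comm_le_left (hU.1.trans nS)))⟩))

theorem foc (hT : Syl 2 T X) (l : S ≤ T) (sc : ∀ x ∈ S, ∀ g ∈ X, g * x * g⁻¹ ∈ T → g * x * g⁻¹ ∈ S) :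
    T ⊓ ⁅X, X⁆ ≤ S ⊔ ⁅X ⊓ 𝐍 S, X ⊓ 𝐍 S⁆ := by
  haveI : Fact (Nat.Prime 2) := ⟨p2⟩
  have nS : T ≤ 𝐍 S := le_norm_iff.2 fun g hg x hx => sc x hx g (hT.le hg) (conj_mem_of_norm (le_norm_self T hg) (l hx))
  refine (hT.isSylowIn p2).ctrlIn_focRel_iff.1 (alp hT l sc (Transfer.focRel_fusRel _ _)
    (fun U hU g hg _ a ha => mem_sup_right ?_) fun U _ _ d hd a ha => mem_sup_left ?_)
  · simpa [commutatorElement_def, mul_assoc] using
      commutator_mem_commutator (inv_mem (le_inf hT.le nS (hU ha))) hg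
  · simpa [commutatorElement_def, mul_assoc] using inv_mem (mem_inf.1 ((mem_centMod.1 hd.2).2 _ (inv_mem ha))).2

theorem cent_cyc (c : Cyc Z) (k : P2 Z) (o : Od P) (n : P ≤ 𝐍 Z) : P ≤ 𝐂 Z := fun _ hg =>
  CF.Invol.mem_centralizer_of_isCyclic c k.isPGroup (n hg) (eo_iff.2 (o.elt hg))

theorem le_of_syl (hT : Syl 2 T X) (l : T ≤ M) (h : ∀ P ≤ X, Od P → P ≤ M) : X ≤ M :=
  le_of_forall_syl fun p hp _ => by
    by_cases e : p = 2
    · exact ⟨T, e ▸ hT, l⟩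
    · obtain ⟨P, hP⟩ := BG.exists_syl p X
      exact ⟨P, hP, h P hP.le (hP.pi.of_single e)⟩

theorem scC (h : IsStronglyClosed S T) (hT : Syl 2 T ⊤) (cy : ∀ A ≤ S, Abel A → Cyc A) :
    IsStronglyClosed (T ⊓ 𝐂 S) T := by
  have nS := (le_norm_self T).trans (sc_norm h h.1 le_rfl)
  have := alp (R := fun U g => ∀ u ∈ U, u ∈ 𝐂 S ↔ g * u * g⁻¹ ∈ 𝐂 S) hT h.1 (fun x hx g _ => h.2 x hx g)
    ⟨fun A B g l k u hu => k u (l hu), fun A g k h1 h2 u hu => ?_, fun A g h1 u hu => ?_, fun A _ g hg u hu => ?_⟩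
    (fun U _ g hg _ u _ => mem_norm.1 (norm_le_norm_cent S hg.2) u) fun U hU s d hd u hu => ?_
  · exact ⟨inf_le_left, fun x hx g hg => ⟨hg, (this _ (zpowers_le.2 hx.1) g (mem_top g)
      ((cj_zpowers g x).le.trans (zpowers_le.2 hg)) x (mem_zpowers x)).1 hx.2⟩⟩
  · rw [h1 u hu, h2 _ (conj_mem_cj.2 hu)]
    simp only [mul_inv_rev, mul_assoc]
  · rw [inv_inv, h1 _ (mem_cj.1 hu)]
    simp [mul_assoc]
  · rw [← hg u hu, mul_inv_cancel_right]
  have n : ⊤ ⊓ 𝐍 U ≤ 𝐍 (U ⊓ S) := inf_le_right.trans (le_norm_iff.2 fun g hg x hx =>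
    ⟨conj_mem_of_norm hg hx.1, h.2 x hx.2 g (hU (conj_mem_of_norm hg hx.1))⟩)
  have := mem_norm.1 (le_of_syl (M := 𝐍 (U ⊓ 𝐂 S)) (s.inf_normal ⟨inf_le_left,
    norm_inf (le_norm_self _) (norm_centMod inf_le_right n)⟩) (inf_le_left.trans (norm_inf inf_le_right
      (inf_le_left.trans (norm_cent nS)))) (fun P hP o => ?_) hd) u
  · exact ⟨fun k => (this.1 ⟨hu, k⟩).2, fun k => (this.2 ⟨conj_mem_of_norm hd.1.2 hu, k⟩).2⟩
  have nR := hP.trans (inf_le_left.trans n)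
  have k := hT.pi.le (inf_le_left.trans (inf_le_left.trans hU) : U ⊓ S ⊓ 𝐂 (U ⊓ S) ≤ T)
  refine norm_of_cent ((cent_of_stable (K := U ⊓ 𝐂 (U ⊓ S)) (cop2' o k) (le_inf ?_ ((comm_le_left
    (norm_inf_cent (hP.trans (inf_le_left.trans inf_le_right)) nR)).trans inf_le_right)) (cent_cyc
      (cy _ (inf_le_left.trans inf_le_right) (center_abel _)) k o (norm_inf_cent nR nR))).trans
        (cent_anti (inf_le_inf_left _ (cent_anti inf_le_right))))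
  rw [commutator_comm]
  exact (commutator_mono (hP.trans inf_le_right) inf_le_left).trans (comm_centMod_le _ _)

/-- a unique involution -/
def UI (S : Subgroup G) : Prop := ∀ x ∈ S, ∀ y ∈ S, x ^ 2 = 1 → y ^ 2 = 1 → x ≠ 1 → y ∈ zpowers x

theorem UI.cyc (h : UI S) (k : P2 S) (l : A ≤ S) (a : Abel A) : Cyc A :=
  haveI : Fact (Nat.Prime 2) := ⟨p2⟩
  haveI := a.comm
  Solv.isCyclic_of_abelian_of_omega (k.le l).isPGroup fun x hx y hy => h x (l hx) y (l hy)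

theorem UI.npc (h : UI S) (k : P2 S) (n : N ≤ 𝐍 S) (hT : Syl 2 T N) : NPC 2 (qt (S ⊔ 𝐂 S) N) := by
  haveI : Fact (Nat.Prime 2) := ⟨p2⟩
  have nW : 𝐍 S ≤ 𝐍 (S ⊔ 𝐂 S) := norm_sup le_rfl (norm_le_norm_cent S)
  by_cases e : ∀ P ≤ N, Od P → P ≤ 𝐂 S
  · exact ((hT.pi.qt _).le ((qt_le_qt_iff (n.trans nW) (hT.le.trans (n.trans nW))).2 (le_of_syl hT le_sup_right
      fun P l o => (e P l o).trans (le_sup_right.trans le_sup_left)))).nil.npc 2
  obtain ⟨P, l, o, e⟩ : ∃ P ≤ N, Od P ∧ ¬ P ≤ 𝐂 S := by simpa using e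
  obtain ⟨g, hg, e⟩ := SetLike.not_le_iff_exists.1 e
  have og := eo_iff.2 (o.elt hg)
  rcases Solv.isCyclic_or_quaternion k.isPGroup (fun x y hx hy x1 => by
    obtain ⟨i, e⟩ := h x x.2 y y.2 (congrArg Subtype.val hx) (congrArg Subtype.val hy) fun e => x1 (Subtype.ext e)
    exact ⟨i, Subtype.ext e⟩) with c | ⟨-, m, -, ⟨f⟩⟩
  · exact absurd (CF.Invol.mem_centralizer_of_isCyclic c k.isPGroup (n (l hg)) og) e
  obtain ⟨a, b, q⟩ := CF.Invol.exists_qt f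
  rcases q.odd_cases le_rfl (n (l hg)) og e with ⟨j, o, -⟩ | ⟨h2, j, o, f⟩
  · exact absurd (h _ (q.a_mem _) _ (q.b_mem j) (q.orderOf_zh ▸ pow_orderOf_eq_one _)
      (o ▸ pow_orderOf_eq_one _) (Iv.ne_one q.orderOf_zh)) (q.toMc.b_not_mem_zpowers _ _)
  have s := hT.qt (n.trans nW)
  have c := (card_dvd_of_le (s.le.trans (qt_mono _ n))).trans ((card_qt nW).dvd.trans
    (f ▸ q.isQ8_Q h2 o).relIndex_dvd_six)
  obtain ⟨i, hi⟩ := s.pi.card_pow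
  refine npc_of_cyc s ?_
  rcases i with _ | _ | i
  · exact eq_bot_of_card_eq _ hi ▸ cyc_bot
  · exact cyc_of_prime (hi ▸ p2)
  · rw [hi] at c
    exact absurd ((pow_dvd_pow 2 (by omega : 2 ≤ i + 1 + 1)).trans c) (by decide)

theorem le_der (h : IsStronglyClosed S T) (hT : Syl 2 T ⊤) :
    T ⊓ normalClosure (S : Set G) ≤ S ⊔ T ⊓ normalClosure (S : Set G) ⊓
      ⁅normalClosure (S : Set G), normalClosure (S : Set G)⁆ := by
  set X := normalClosure (S : Set G)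
  have n : X ⊴ ⊤ := ncl_normal S
  have l : S ≤ T ⊓ X := le_inf h.1 le_normalClosure
  haveI : (S ⊔ ⁅X, X⁆).Normal := BG.normalIn_top.1 ⟨le_top, ((hT.inf_normal n).syl_frattini_sup n).ge.trans
    (sup_le (norm_of_der_le (sup_le le_normalClosure (der_le X)) le_sup_right) (inf_le_right.trans
      (norm_sup (sc_norm h l inf_le_left) (le_top.trans n.der.norm))))⟩
  rw [← BG.inf_sup_left l (.inl (le_top.trans n.der.norm))]
  exact le_inf le_rfl (inf_le_right.trans (normalClosure_le_normal (le_sup_left : S ≤ _)))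

theorem rank1 (ly : LY.{u}) (O : 𝒪 (⊤ : Subgroup G) = ⊥) (h : IsStronglyClosed S T) (hT : Syl 2 T ⊤) (u : UI S) :
    T ⊓ normalClosure (S : Set G) = S := by
  have ld := le_der h hT
  set X := normalClosure (S : Set G) with hX
  have n : X ⊴ ⊤ := ncl_normal S
  have l : S ≤ T ⊓ X := le_inf h.1 le_normalClosure
  have k := hT.pi.le h.1
  have s := hT.inf_normal n
  have nS := sc_norm h l inf_le_left
  have nW : 𝐍 S ≤ 𝐍 (S ⊔ 𝐂 S) := norm_sup le_rfl (norm_le_norm_cent S)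
  have sN := s.of_le (le_inf s.le ((le_norm_self _).trans nS)) (inf_le_left : X ⊓ 𝐍 S ≤ X)
  have n1 := inf_le_right.trans nW (a := X ⊓ 𝐍 S)
  have h1 : T ⊓ X ≤ S ⊔ 𝐂 S := by
    have sq := sN.qt n1
    refine (qt_eq_bot (sN.le.trans n1)).1 (sq.pi.nil.sol.eq_bot_of_le_der (le_trans (le_inf le_rfl ?_)
      ((u.npc k inf_le_right sN).inf_der_le sq)))
    rw [← qt_comm n1 n1, qt_le_qt_iff (sN.le.trans n1) ((der_le _).trans n1)]
    exact ld.trans (sup_le (le_sup_left.trans le_sup_left) ((foc s l fun x hx g hg e =>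
      h.2 x hx g e.1).trans (sup_le_sup_right le_sup_left _)))
  have hC := scC h hT fun A => u.cyc k
  have lZ : S ⊓ (T ⊓ 𝐂 S) ≤ S := inf_le_left
  obtain ⟨z, hz⟩ := (u.cyc k lZ (center_abel S |>.mono (inf_le_inf_left _ inf_le_right))).exists_gen
  have mz := hz.le (mem_zpowers z)
  have cz : z ∈ 𝐂 X := by
    refine zstar_cent (le_bot_iff.1 (O ▸ O_le_O_of_normal n _)) s (l mz.1) fun g hg e => ?_
    have : g ∈ 𝐍 (zpowers z) := mem_norm_of_cj_le ((cj_zpowers g z).le.trans (zpowers_le.2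
      (hz.ge ⟨h.2 z mz.1 g e.1, hC.2 z mz.2 g e.1⟩)))
    have c : T ⊓ X ≤ 𝐂 (zpowers z) := le_trans (le_inf h1 inf_le_left) (by
      rw [sup_inf_left h.1 (.inr (cent_le_norm S)), hz]
      exact sup_le (cent_symm (inf_le_right.trans inf_le_right)) (inf_le_left.trans (cent_anti lZ)))
    have := le_of_syl (s.of_le (le_inf s.le (norm_of_cent c)) (inf_le_left : X ⊓ 𝐍 (zpowers z) ≤ X)) c
      (fun P hP o => cent_cyc (cyc_zpowers z) (hz ▸ k.le lZ) o (hP.trans inf_le_right)) ⟨hg, this⟩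
    rw [← this z (mem_zpowers z), mul_inv_cancel_right]
  have nZ : normalClosure ((S ⊓ (T ⊓ 𝐂 S) : Subgroup G) : Set G) ≤ S ⊓ (T ⊓ 𝐂 S) := by
    haveI : (S ⊓ (T ⊓ 𝐂 S)).Normal := ⟨fun x hx g => by
      have m : x ∈ 𝐎 {2} ⊤ := O_le_O_of_normal n _ (le_O ⟨lZ.trans (l.trans s.le), norm_of_cent
        (cent_symm (hz ▸ zpowers_le.2 cz))⟩ (k.le lZ) hx)
      have := hT.O_le ((O_normal _ _).conj_mem (mem_top g) m)
      exact ⟨h.2 x hx.1 g this, hC.2 x hx.2 g this⟩⟩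
    exact (normalClosure_eq_self _).le
  have p := pf ly h hC hT fun a ha b hb => hb.2 a ha
  rw [O, sup_bot_eq] at p
  refine le_antisymm (ld.trans (sup_le le_rfl (s.focal fun x hx g hg e => ?_))) l
  obtain ⟨c, hc, y, hy, rfl⟩ := (mem_sup_norm (cent_le_norm S)).1 (sup_comm S (𝐂 S) ▸ h1 hx)
  have cT : c ∈ T := (mul_mem_cancel_right (h.1 hy)).1 hx.1
  have m := (nZ (p (commutator_mem_commutator hg (le_normalClosure (⟨cT, hc⟩ : c ∈ T ⊓ 𝐂 S))))).1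
  have e1 : g * (c * y) * g⁻¹ = ⁅g, c⁆ * c * (g * y * g⁻¹) := by rw [commutatorElement_def]; group
  have m2 := h.2 y hy g ((mul_mem_cancel_left (mul_mem (h.1 m) cT)).1 (e1 ▸ e.1))
  rw [e1, show (c * y)⁻¹ * (⁅g, c⁆ * c * (g * y * g⁻¹)) = y⁻¹ * (c⁻¹ * ⁅g, c⁆ * c) * (g * y * g⁻¹) by group]
  exact mul_mem (mul_mem (inv_mem hy) (conj_mem_of_norm' (cent_le_norm S hc) m)) m2

end
end CF.SC2
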